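import Mathlib
import Cfsg.Agent.Lib.Helper44.FW.Defs

/-!
# FW package [PHI] (S3211): a square root of `t₀` outside `L₁L₂` gives a square root of `j`
-/

set_option autoImplicit false

namespace Cfsg.Agent.Lib.Helper72.FW

open Cfsg.Agent.Lib.Helper44.FW

universe u

theorem pkgPhi : PkgPhi.{u} := by
  intro G _ L₁ L₂ j n h hInv x₀ hx₀ hx₀2 r hrC hrY hrt hr2
  have hj2 : j * j = 1 := by
    rw [← pow_two, ← h.ord]
    exact pow_orderOf_eq_one j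
  have hj1 : j ≠ 1 := by
    intro h1
    have h2 := h.ord
    rw [h1, orderOf_one] at h2
    omega
  have hjinv : j⁻¹ = j := inv_eq_of_mul_eq_one_right hj2
  have hL₁Y : L₁ ≤ L₁ ⊔ L₂ := le_sup_left
  have hL₂Y : L₂ ≤ L₁ ⊔ L₂ := le_sup_right
  have hC : ∀ c ∈ Subgroup.centralizer ({j} : Set G), j * c = c * j := fun c hc =>
    Subgroup.mem_centralizer_iff.mp hc j (Set.mem_singleton j)
  have hmeet : ∀ g, g ∈ L₁ → g ∈ L₂ → g = 1 ∨ g = j := by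
    intro g h1 h2
    have hg : g ∈ Subgroup.zpowers j := by
      rw [← h.meet]
      exact ⟨h1, h2⟩
    obtain ⟨k, rfl⟩ := Subgroup.mem_zpowers_iff.mp hg
    have hmod : j ^ k = j ^ (k % 2) := by
      have h3 := zpow_mod_orderOf j k
      rw [h.ord] at h3
      exact_mod_cast h3.symm
    rcases Int.emod_two_eq_zero_or_one k with hk | hk
    · left
      rw [hmod, hk, zpow_zero]
    · right
      rw [hmod, hk, zpow_one]
  have hjL₁ : j ∈ L₁ := by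
    have h1 : j ∈ L₁ ⊓ L₂ := by
      rw [h.meet]
      exact Subgroup.mem_zpowers j
    exact h1.1
  have hnC := h.hn
  have hnj : j * n = n * j := hC n hnC
  have hx₀C : x₀ ∈ Subgroup.centralizer ({j} : Set G) := h.le (hL₁Y hx₀)
  have hx₀j : j * x₀ = x₀ * j := hC x₀ hx₀C
  obtain ⟨y₀, hy₀def⟩ : ∃ y₀ : G, y₀ = n * x₀ * n⁻¹ := ⟨_, rfl⟩
  rw [← hy₀def] at hrt hr2
  have hy₀ : y₀ ∈ L₂ := by
    rw [← h.swap, hy₀def]
    exact ⟨x₀, hx₀, rfl⟩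
  have hy₀C : y₀ ∈ Subgroup.centralizer ({j} : Set G) := h.le (hL₂Y hy₀)
  have hy₀j : j * y₀ = y₀ * j := hC y₀ hy₀C
  have hn2' : n * n = j := by
    rw [← pow_two]
    exact h.hn2
  have hxx : x₀ * x₀ = j := by
    rw [← pow_two]
    exact hx₀2
  have hy₀2 : y₀ * y₀ = j := by
    calc y₀ * y₀ = n * (x₀ * x₀) * n⁻¹ := by rw [hy₀def]; group
      _ = n * j * n⁻¹ := by rw [hxx]
      _ = j := by rw [← hnj, mul_inv_cancel_right]
  have hxy : x₀ * y₀ = y₀ * x₀ := h.comm x₀ hx₀ y₀ hy₀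
  have hy₀' : n⁻¹ * x₀ * n = y₀ := by
    have h1 : y₀ = n⁻¹ * ((n * n) * x₀ * (n * n)⁻¹) * n := by rw [hy₀def]; group
    rw [h1, hn2', hx₀j, mul_inv_cancel_right]
  have hYdec : ∀ g ∈ L₁ ⊔ L₂, ∃ a ∈ L₁, ∃ b ∈ L₂, g = a * b := by
    let P : Subgroup G :=
      { carrier := {g | ∃ a ∈ L₁, ∃ b ∈ L₂, g = a * b}
        one_mem' := ⟨1, L₁.one_mem, 1, L₂.one_mem, (mul_one 1).symm⟩
        mul_mem' := by
          rintro _ _ ⟨a, ha, b, hb, rfl⟩ ⟨a', ha', b', hb', rfl⟩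
          refine ⟨a * a', L₁.mul_mem ha ha', b * b', L₂.mul_mem hb hb', ?_⟩
          have h1 := h.comm a' ha' b hb
          calc a * b * (a' * b') = a * (b * a') * b' := by group
            _ = a * (a' * b) * b' := by rw [h1]
            _ = a * a' * (b * b') := by group
        inv_mem' := by
          rintro _ ⟨a, ha, b, hb, rfl⟩
          refine ⟨a⁻¹, L₁.inv_mem ha, b⁻¹, L₂.inv_mem hb, ?_⟩
          have h1 := h.comm a⁻¹ (L₁.inv_mem ha) b⁻¹ (L₂.inv_mem hb)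
          rw [mul_inv_rev, h1] }
    have hle : L₁ ⊔ L₂ ≤ P :=
      sup_le (fun a ha => ⟨a, ha, 1, L₂.one_mem, (mul_one a).symm⟩)
        (fun b hb => ⟨1, L₁.one_mem, b, hb, (one_mul b).symm⟩)
    intro g hg
    exact hle hg
  have hnY : n ∉ L₁ ⊔ L₂ := by
    intro hn
    obtain ⟨a, ha, b, hb, hab⟩ := hYdec n hn
    have hl : a⁻¹ * x₀ * a ∈ L₁ := L₁.mul_mem (L₁.mul_mem (L₁.inv_mem ha) hx₀) ha
    have h1 : n * (a⁻¹ * x₀ * a) * n⁻¹ ∈ L₂ := by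
      rw [← h.swap]
      exact ⟨_, hl, rfl⟩
    have h2 : n * (a⁻¹ * x₀ * a) * n⁻¹ = x₀ := by
      have hc := h.comm (a⁻¹ * x₀ * a) hl b hb
      rw [hab]
      calc a * b * (a⁻¹ * x₀ * a) * (a * b)⁻¹
          = a * (b * (a⁻¹ * x₀ * a)) * b⁻¹ * a⁻¹ := by group
        _ = a * ((a⁻¹ * x₀ * a) * b) * b⁻¹ * a⁻¹ := by rw [hc]
        _ = x₀ := by group
    rw [h2] at h1
    rcases hmeet x₀ hx₀ h1 with h3 | h3
    · rw [h3, one_mul] at hxx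
      exact hj1 hxx.symm
    · rw [h3, hj2] at hxx
      exact hj1 hxx.symm
  have hw : n⁻¹ * r ∈ L₁ ⊔ L₂ := by
    have hidx : ((L₁ ⊔ L₂).subgroupOf (Subgroup.centralizer ({j} : Set G))).index = 2 := h.idx
    have key := Subgroup.mul_mem_iff_of_index_two hidx
      (a := (⟨n⁻¹, inv_mem hnC⟩ : Subgroup.centralizer ({j} : Set G))) (b := ⟨r, hrC⟩)
    rw [Subgroup.mem_subgroupOf, Subgroup.mem_subgroupOf, Subgroup.mem_subgroupOf] at key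
    exact key.mpr ⟨fun h1 => absurd ((inv_mem_iff (H := L₁ ⊔ L₂)).mp h1) hnY,
      fun h1 => absurd h1 hrY⟩
  obtain ⟨a, ha, b, hb, hwab⟩ := hYdec _ hw
  have hr : r = n * a * b := by
    have h1 : r = n * (n⁻¹ * r) := by group
    rw [h1, hwab]
    group
  have hB : r⁻¹ * x₀ * r = b⁻¹ * y₀ * b := by
    have hc := h.comm a ha y₀ hy₀
    calc r⁻¹ * x₀ * r = b⁻¹ * a⁻¹ * (n⁻¹ * x₀ * n) * a * b := by rw [hr]; group
      _ = b⁻¹ * a⁻¹ * y₀ * a * b := by rw [hy₀']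
      _ = b⁻¹ * (a⁻¹ * (y₀ * a)) * b := by group
      _ = b⁻¹ * (a⁻¹ * (a * y₀)) * b := by rw [hc]
      _ = b⁻¹ * y₀ * b := by group
  have hBL : r⁻¹ * x₀ * r ∈ L₂ := by
    rw [hB]
    exact L₂.mul_mem (L₂.mul_mem (L₂.inv_mem hb) hy₀) hb
  have hl : a⁻¹ * x₀ * a ∈ L₁ := L₁.mul_mem (L₁.mul_mem (L₁.inv_mem ha) hx₀) ha
  have hA : r⁻¹ * y₀ * r = a⁻¹ * x₀ * a := by
    have hc := h.comm (a⁻¹ * x₀ * a) hl b hb
    calc r⁻¹ * y₀ * r = b⁻¹ * ((a⁻¹ * x₀ * a) * b) := by rw [hr, hy₀def]; group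
      _ = b⁻¹ * (b * (a⁻¹ * x₀ * a)) := by rw [hc]
      _ = a⁻¹ * x₀ * a := by group
  have hAL : r⁻¹ * y₀ * r ∈ L₁ := by
    rw [hA]
    exact hl
  have hAB : (r⁻¹ * y₀ * r) * (r⁻¹ * x₀ * r) = x₀ * y₀ := by
    have h1 : (r⁻¹ * x₀ * r) * (r⁻¹ * y₀ * r) = r⁻¹ * (x₀ * y₀ * r) := by group
    rw [← hrt] at h1
    rw [h.comm _ hAL _ hBL, h1]
    group
  have hδ : x₀⁻¹ * (r⁻¹ * y₀ * r) = y₀ * (r⁻¹ * x₀ * r)⁻¹ := by
    have h1 : r⁻¹ * y₀ * r = x₀ * y₀ * (r⁻¹ * x₀ * r)⁻¹ := by rw [← hAB]; group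
    rw [h1]
    group
  have hδmem : x₀⁻¹ * (r⁻¹ * y₀ * r) = 1 ∨ x₀⁻¹ * (r⁻¹ * y₀ * r) = j :=
    hmeet _ (L₁.mul_mem (L₁.inv_mem hx₀) hAL)
      (by rw [hδ]; exact L₂.mul_mem hy₀ (L₂.inv_mem hBL))
  have hsq : (r * x₀) ^ 2 = r ^ 2 * (r⁻¹ * x₀ * r) * x₀ := by
    rw [pow_two, pow_two]
    group
  have hδj : x₀⁻¹ * (r⁻¹ * y₀ * r) = j := by
    rcases hδmem with h1 | h1
    · exfalso
      have hB1 : r⁻¹ * x₀ * r = y₀ := by
        have h2 : y₀ * (r⁻¹ * x₀ * r)⁻¹ = 1 := by rw [← hδ]; exact h1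
        exact (eq_of_mul_inv_eq_one h2).symm
      have h3 : (r * x₀) ^ 2 = 1 := by
        rw [hsq, hr2, hB1]
        calc x₀ * y₀ * y₀ * x₀ = x₀ * (y₀ * y₀) * x₀ := by group
          _ = x₀ * j * x₀ := by rw [hy₀2]
          _ = j * (x₀ * x₀) := by rw [← hx₀j]; group
          _ = 1 := by rw [hxx, hj2]
      have hrx₀C : r * x₀ ∈ Subgroup.centralizer ({j} : Set G) := Subgroup.mul_mem _ hrC hx₀C
      have hne1 : r * x₀ ≠ 1 := by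
        intro h4
        apply hrY
        rw [eq_inv_of_mul_eq_one_left h4]
        exact hL₁Y (L₁.inv_mem hx₀)
      have hnej : r * x₀ ≠ j := by
        intro h4
        apply hrY
        rw [eq_mul_inv_of_mul_eq h4]
        exact (L₁ ⊔ L₂).mul_mem (hL₁Y hjL₁) (hL₁Y (L₁.inv_mem hx₀))
      obtain ⟨x, hx, y, hy, hxy', -, -⟩ := hInv (r * x₀) hrx₀C h3 hne1 hnej
      apply hrY
      rw [eq_mul_inv_of_mul_eq hxy']
      exact (L₁ ⊔ L₂).mul_mem ((L₁ ⊔ L₂).mul_mem (hL₁Y hx) (hL₂Y hy)) (hL₁Y (L₁.inv_mem hx₀))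
    · exact h1
  have hBj : r⁻¹ * x₀ * r = j * y₀ := by
    have h1 : y₀ * (r⁻¹ * x₀ * r)⁻¹ = j := by rw [← hδ]; exact hδj
    have h2 : r⁻¹ * x₀ * r = (y₀ * (r⁻¹ * x₀ * r)⁻¹)⁻¹ * y₀ := by group
    rw [h1, hjinv] at h2
    exact h2
  have hfirst : (r * x₀) ^ 2 = j := by
    rw [hsq, hr2, hBj]
    calc x₀ * y₀ * (j * y₀) * x₀ = x₀ * (y₀ * j) * y₀ * x₀ := by group
      _ = x₀ * (j * y₀) * y₀ * x₀ := by rw [hy₀j]
      _ = (x₀ * j) * (y₀ * y₀) * x₀ := by group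
      _ = (j * x₀) * j * x₀ := by rw [hy₀2, hx₀j]
      _ = j * (x₀ * j) * x₀ := by group
      _ = j * (j * x₀) * x₀ := by rw [hx₀j]
      _ = (j * j) * (x₀ * x₀) := by group
      _ = j := by rw [hj2, one_mul, hxx]
  refine ⟨hfirst, ?_⟩
  intro hrn
  have hr' : r = n * x₀⁻¹ := eq_mul_inv_of_mul_eq hrn
  have hB2 : r⁻¹ * x₀ * r = y₀ := by
    calc r⁻¹ * x₀ * r = x₀ * (n⁻¹ * x₀ * n) * x₀⁻¹ := by rw [hr']; group
      _ = x₀ * y₀ * x₀⁻¹ := by rw [hy₀']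
      _ = y₀ := by rw [hxy]; group
  rw [hBj] at hB2
  exact hj1 (by simpa using hB2)

end Cfsg.Agent.Lib.Helper72.FW
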